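import Groth.Agent.Lib.LiaisonH1.Unmixed
import Groth.Agent.Lib.GrSyz.Tor
import Groth.Agent.Lib.VarDim.Alg
import Groth.Agent.Lib.LocCoh.Vanishing
import Groth.Agent.Lib.LocCoh.Seq

/-!
# Vanishing of local cohomology at the vertex of a Cohen–Macaulay cone
-/

universe u

namespace Groth.Agent.LiaisonH1

open MvPolynomial IsLocalRing

variable (K : Type u) [Field K] (n : ℕ)

local notation "S" => MvPolynomial (Fin (n + 1)) K

theorem irrel_eq_irr :
    (GrSyz.irrel (GrSyz.stdGr K (Fin (n + 1)))).toIdeal = irr K n :=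
  GrSyzLib.irrel_eq_ker

theorem height_irr : (irr K n).height = (n + 1 : ℕ) := by
  let q : PrimeSpectrum S := ⟨irr K n, (irr_isMaximal K n).isPrime⟩
  have hq : IsMax q := fun r hr =>
    le_of_eq (PrimeSpectrum.ext ((irr_isMaximal K n).eq_of_le r.2.ne_top hr).symm)
  have h := VarDim.height_add_coheight_mvPolynomial K (n + 1) q
  rw [Order.coheight_eq_zero.2 hq, add_zero, ← PrimeSpectrum.height_eq_orderHeight] at h
  exact h

variable {K n}

theorem dim_irr_add_height (J : Ideal S) (hJ : J.IsHomogeneous (GrSyz.stdGr K (Fin (n + 1))))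
    (hJne : J ≠ ⊤) [LocCoh.IsCohenMacaulayRing (S ⧸ J)]
    [((irr K n).map (Ideal.Quotient.mk J)).IsPrime] :
    ∃ d : ℕ, ringKrullDim (Localization.AtPrime ((irr K n).map (Ideal.Quotient.mk J))) = d ∧
      (d : ℕ∞) + J.height = (n + 1 : ℕ) := by
  obtain ⟨P, hP, -⟩ := Ideal.exists_minimalPrimes_le (le_irr hJ hJne)
  have h1 := height_add_dim J hJ hP
  rw [height_eq_of_mem_associatedPrimes J hJ (minimalPrimes_subset_associatedPrimes J hP),
    IsLocalization.AtPrime.ringKrullDim_eq_height (irr K n), height_irr] at h1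
  haveI := isCM_localization J ((irr K n).map (Ideal.Quotient.mk J))
  obtain ⟨d, hd⟩ := exists_dim_eq (Localization.AtPrime ((irr K n).map (Ideal.Quotient.mk J)))
  refine ⟨d, hd, ?_⟩
  rw [hd, show (d : WithBot ℕ∞) = ((d : ℕ∞) : WithBot ℕ∞) from rfl, ← WithBot.coe_add,
    WithBot.coe_inj] at h1
  exact h1.symm

/-- The depth of a Cohen–Macaulay cone at its vertex. -/
theorem le_idealDepth_irr (J : Ideal S) (hJ : J.IsHomogeneous (GrSyz.stdGr K (Fin (n + 1))))
    [LocCoh.IsCohenMacaulayRing (S ⧸ J)] (e : ℕ) (he : (e : ℕ∞) + J.height ≤ (n + 1 : ℕ)) :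
    (e : ℕ∞) ≤ LocCoh.idealDepth (GrSyz.irrel (GrSyz.stdGr K (Fin (n + 1)))).toIdeal (S ⧸ J) := by
  have hJne : J ≠ ⊤ := by
    rintro rfl
    rw [Ideal.height_top, add_top, top_le_iff] at he
    exact ENat.natCast_ne_top _ he
  haveI hmb : ((irr K n).map (Ideal.Quotient.mk J)).IsMaximal :=
    (Ideal.map_eq_top_or_isMaximal_of_surjective _ Ideal.Quotient.mk_surjective
      (irr_isMaximal K n)).resolve_left fun h => by
    have h2 := congrArg (Ideal.comap (Ideal.Quotient.mk J)) h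
    rw [Ideal.comap_map_of_surjective _ Ideal.Quotient.mk_surjective, ← RingHom.ker_eq_comap_bot,
      Ideal.mk_ker, sup_eq_left.2 (le_irr hJ hJne), Ideal.comap_top] at h2
    exact (irr_isMaximal K n).ne_top h2
  rw [irrel_eq_irr, ← GorenLib.idealDepth_map_of_surjective (A := S) (B := S ⧸ J)
    Ideal.Quotient.mk_surjective, Ideal.Quotient.algebraMap_eq,
    DepthLib.natCast_le_idealDepth_iff_forall_localized]
  intro q hq
  obtain rfl : q = ⟨(irr K n).map (Ideal.Quotient.mk J), hmb.isPrime⟩ :=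
    PrimeSpectrum.ext (hmb.eq_of_le q.2.ne_top hq).symm
  obtain ⟨d, hd, hdh⟩ := dim_irr_add_height J hJ hJne
  haveI := isCM_localization J ((irr K n).map (Ideal.Quotient.mk J))
  rw [DepthLib.depth_localizedModule_self, ← WithBot.coe_le_coe,
    ← LocCoh.IsCohenMacaulayLocalRing.supportDim_eq_depth, Module.supportDim_self_eq_ringKrullDim, hd,
    show (d : WithBot ℕ∞) = ((d : ℕ∞) : WithBot ℕ∞) from rfl, WithBot.coe_le_coe]
  rw [← hdh] at he
  refine (WithTop.add_le_add_iff_right ?_).1 he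
  intro htop
  rw [show J.height = (⊤ : ℕ∞) from htop, add_top] at hdh
  exact ENat.natCast_ne_top _ hdh.symm

/-- Local cohomology at the vertex of a Cohen–Macaulay cone vanishes below the dimension. -/
theorem subsingleton_H (J : Ideal S) (hJ : J.IsHomogeneous (GrSyz.stdGr K (Fin (n + 1))))
    [LocCoh.IsCohenMacaulayRing (S ⧸ J)] (i : ℕ) (hi : (i : ℕ∞) + J.height < (n + 1 : ℕ)) :
    Subsingleton (LocCoh.H (GrSyz.irrel (GrSyz.stdGr K (Fin (n + 1)))).toIdeal i (S ⧸ J)) := by
  have h1 : ((i + 1 : ℕ) : ℕ∞) + J.height ≤ (n + 1 : ℕ) := by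
    push_cast at hi ⊢
    rw [add_right_comm]
    exact Order.add_one_le_of_lt hi
  refine (LocCohLib.vanishing_below_iff (I := (GrSyz.irrel (GrSyz.stdGr K (Fin (n + 1)))).toIdeal)
    (ModuleCat.of S (S ⧸ J)) (i + 1)).2 (fun N _ _ _ hN j hj => ?_) i i.lt_succ_self
  exact DepthLib.subsingleton_ext_of_le_idealDepth (le_idealDepth_irr J hJ (i + 1) h1)
    (ModuleCat.of S N) hN hj

end Groth.Agent.LiaisonH1
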