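import Groth.Agent.Lib.LiaisonH1.Global

/-!
Cohen–Macaulay and Gorenstein linked ideals.
-/

universe u

open IsLocalRing

namespace Groth.Agent.LiaisonH1

theorem depth_self_eq {L B : Type u} [CommRing L] [IsLocalRing L] [CommRing B] [IsLocalRing B]
    (K : Ideal L) (e : (L ⧸ K) ≃+* B) :
    LocCoh.depth B B = LocCoh.depth L (L ⧸ K) := by
  let ψ : L →+* B := e.toRingHom.comp (Ideal.Quotient.mk K)
  have hψ : Function.Surjective ψ := e.surjective.comp Ideal.Quotient.mk_surjective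
  letI : Algebra L B := ψ.toAlgebra
  let el : (L ⧸ K) ≃ₗ[L] B :=
    { e.toAddEquiv with
      map_smul' := fun a x => by
        obtain ⟨x, rfl⟩ := Ideal.Quotient.mk_surjective x
        show e (Ideal.Quotient.mk K (a * x)) = ψ a * e (Ideal.Quotient.mk K x)
        rw [map_mul, map_mul]
        rfl }
  rw [LocCoh.depth, LocCoh.depth, DepthLib.idealDepth_congr el,
    ← GorenLib.idealDepth_map_of_surjective (A := L) (B := B) hψ, GorenLib.map_maximalIdeal_eq hψ]

theorem exists_dim (L : Type u) [CommRing L] [IsNoetherianRing L] [IsLocalRing L] :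
    ∃ d : ℕ, ringKrullDim L = d := exists_dim_eq L

variable {R : Type u} [CommRing R] [IsNoetherianRing R] {𝔠 : Ideal R} [LocCoh.IsGorensteinRing (R ⧸ 𝔠)]

omit [IsNoetherianRing R] [LocCoh.IsGorensteinRing (R ⧸ 𝔠)] in
theorem le_colon (I : Ideal R) : 𝔠 ≤ 𝔠.colon (I : Set R) := fun a ha =>
  Submodule.mem_colon.2 fun i _ => 𝔠.mul_mem_right i ha

/-- The linked quotient is Cohen–Macaulay. -/
theorem isCM_colon (I : Ideal R) [LocCoh.IsCohenMacaulayRing (R ⧸ I)] (hle : 𝔠 ≤ I)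
    (hht : ∀ (q : Ideal (R ⧸ I)) [q.IsPrime], (q.comap (Ideal.Quotient.factor hle)).height = q.height) :
    LocCoh.IsCohenMacaulayRing (R ⧸ 𝔠.colon (I : Set R)) := by
  refine ⟨fun q _ => ?_⟩
  set p := q.comap (Ideal.Quotient.factor (le_colon I))
  haveI := LocCoh.IsGorensteinRing.isGorensteinLocalRing_localization (A := R ⧸ 𝔠) p
  obtain ⟨d, hd⟩ := exists_dim (Localization.AtPrime p)
  obtain ⟨e⟩ := nonempty_loc_equiv (le_colon I) q
  have h1 := depth_colon d _ (locIdeal p I) hd (le_depth_loc hle hht p hd)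
  rw [← locIdeal_colon p I, ← depth_self_eq _ e] at h1
  have hsurj : Function.Surjective (e.toRingHom.comp (Ideal.Quotient.mk (locIdeal p (𝔠.colon (I : Set R))))) :=
    e.surjective.comp Ideal.Quotient.mk_surjective
  have h2 := ringKrullDim_le_of_surjective _ hsurj
  rw [hd] at h2
  refine { supportDim_eq_depth := le_antisymm ?_ DepthLib.depth_le_supportDim }
  rw [Module.supportDim_self_eq_ringKrullDim]
  exact h2.trans (WithBot.coe_le_coe.2 h1)

/-- The linked quotient of an almost complete intersection is Gorenstein. -/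
theorem isGorenstein_colon (f : R) [LocCoh.IsCohenMacaulayRing (R ⧸ (𝔠 ⊔ Ideal.span {f}))]
    (hht : ∀ (q : Ideal (R ⧸ (𝔠 ⊔ Ideal.span {f}))) [q.IsPrime],
      (q.comap (Ideal.Quotient.factor (le_sup_left : 𝔠 ≤ 𝔠 ⊔ Ideal.span {f}))).height = q.height) :
    LocCoh.IsGorensteinRing (R ⧸ 𝔠.colon ((𝔠 ⊔ Ideal.span {f} : Ideal R) : Set R)) := by
  set I := 𝔠 ⊔ Ideal.span {f}
  refine ⟨fun q _ => ?_⟩
  set p := q.comap (Ideal.Quotient.factor (le_colon I))
  haveI := LocCoh.IsGorensteinRing.isGorensteinLocalRing_localization (A := R ⧸ 𝔠) p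
  obtain ⟨d, hd⟩ := exists_dim (Localization.AtPrime p)
  obtain ⟨e⟩ := nonempty_loc_equiv (le_colon I) q
  have hI : locIdeal p I = Ideal.span {algebraMap (R ⧸ 𝔠) (Localization.AtPrime p) (Ideal.Quotient.mk 𝔠 f)} := by
    rw [locIdeal, Ideal.map_sup, Ideal.map_quotient_self, bot_sup_eq, Ideal.map_span, Set.image_singleton,
      Ideal.map_span, Set.image_singleton]
  have hc := locIdeal_colon p I
  have hne := locIdeal_ne_top (le_colon I) q
  rw [hI] at hc
  have h1 := gorenstein_colon d _ _ hd (hI ▸ le_depth_loc le_sup_left hht p hd) (hc ▸ hne)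
  rw [← hc] at h1
  exact (Goren15.isGorensteinLocalRing_iff_of_ringEquiv e).1 h1

theorem isGorenstein_sum (I J : Ideal R) [LocCoh.IsGorensteinRing (R ⧸ (I ⊓ J))]
    [LocCoh.IsCohenMacaulayRing (R ⧸ I)] [LocCoh.IsCohenMacaulayRing (R ⧸ J)]
    (hI : ∀ (q : Ideal (R ⧸ I)) [q.IsPrime],
      (q.comap (Ideal.Quotient.factor (inf_le_left : I ⊓ J ≤ I))).height = q.height)
    (hJ : ∀ (q : Ideal (R ⧸ J)) [q.IsPrime],
      (q.comap (Ideal.Quotient.factor (inf_le_right : I ⊓ J ≤ J))).height = q.height)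
    (hmin : ∀ P ∈ (I ⊓ J).minimalPrimes, ¬ I ⊔ J ≤ P) :
    LocCoh.IsGorensteinRing (R ⧸ (I ⊔ J)) := by
  have hle : I ⊓ J ≤ I ⊔ J := inf_le_left.trans le_sup_left
  refine ⟨fun q _ => ?_⟩
  set p := q.comap (Ideal.Quotient.factor hle)
  haveI := LocCoh.IsGorensteinRing.isGorensteinLocalRing_localization (A := R ⧸ (I ⊓ J)) p
  obtain ⟨d, hd⟩ := exists_dim (Localization.AtPrime p)
  obtain ⟨e⟩ := nonempty_loc_equiv hle q
  set L := Localization.AtPrime p
  have hsup : locIdeal p (I ⊔ J) = locIdeal p I ⊔ locIdeal p J := by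
    rw [locIdeal, Ideal.map_sup, Ideal.map_sup]
  have hinf : locIdeal p I ⊓ locIdeal p J = ⊥ := by
    have h : I.map (Ideal.Quotient.mk (I ⊓ J)) ⊓ J.map (Ideal.Quotient.mk (I ⊓ J)) = ⊥ := by
      refine eq_bot_iff.2 fun y hy => ?_
      obtain ⟨y, rfl⟩ := Ideal.Quotient.mk_surjective y
      rw [Ideal.mem_bot, Ideal.Quotient.eq_zero_iff_mem]
      exact ⟨(Ideal.mem_quotient_iff_mem inf_le_left).1 hy.1, (Ideal.mem_quotient_iff_mem inf_le_right).1 hy.2⟩
    rw [← IsLocalization.map_inf p.primeCompl, h, Ideal.map_bot]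
  have hne : locIdeal p (I ⊔ J) ≠ ⊤ := locIdeal_ne_top hle q
  have hht : (locIdeal p (I ⊔ J)).height ≠ 0 := by
    intro h0
    rw [Ideal.height_eq_inf_minimalPrimes] at h0
    obtain ⟨P, hP, hP0⟩ : ∃ P ∈ (locIdeal p (I ⊔ J)).minimalPrimes, P.height = 0 := by
      by_contra hcon
      push Not at hcon
      have : (1 : ℕ∞) ≤ ⨅ P ∈ (locIdeal p (I ⊔ J)).minimalPrimes, P.height :=
        le_iInf₂ fun P hP => Order.one_le_iff_ne_zero.2 (hcon P hP)
      rw [h0] at this
      exact absurd this (by simp)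
    haveI := hP.1.1
    have h1 : (P.comap (algebraMap (R ⧸ (I ⊓ J)) L)).height = 0 :=
      (IsLocalization.height_under p.primeCompl P).trans hP0
    rw [Ideal.height_eq_zero_iff] at h1
    have h2 : (P.comap (algebraMap (R ⧸ (I ⊓ J)) L)).comap (Ideal.Quotient.mk (I ⊓ J)) ∈
        (I ⊓ J).minimalPrimes := by
      have h3 := Ideal.minimalPrimes_comap_of_surjective (f := Ideal.Quotient.mk (I ⊓ J))
        Ideal.Quotient.mk_surjective h1
      rwa [← RingHom.ker_eq_comap_bot, Ideal.mk_ker] at h3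
    exact hmin _ h2 (Ideal.map_le_iff_le_comap.1 (Ideal.map_le_iff_le_comap.1 hP.1.2))
  obtain ⟨d, rfl⟩ : ∃ d', d = d' + 1 := by
    refine Nat.exists_eq_add_one.2 (Nat.pos_of_ne_zero fun h0 => hht ?_)
    have h := Ideal.height_le_ringKrullDim_of_ne_top hne
    rw [hd, h0] at h
    exact le_antisymm (WithBot.coe_le_coe.1 (by simpa using h)) zero_le
  haveI := GorenLib.isCohenMacaulayLocalRing_of_gorenstein (S := L)
  have hdim : ringKrullDim (L ⧸ locIdeal p (I ⊔ J)) ≤ (d : WithBot ℕ∞) := by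
    have h := GorenLib.ringKrullDim_eq_quotient_add_height (locIdeal p (I ⊔ J)) hne
    refine DepthLib.withBot_add_coe_cancel 1 ?_
    have h1 : ((1 : ℕ) : WithBot ℕ∞) ≤ ((locIdeal p (I ⊔ J)).height : WithBot ℕ∞) :=
      WithBot.coe_le_coe.2 (Order.one_le_iff_ne_zero.2 hht)
    calc _ ≤ ringKrullDim (L ⧸ locIdeal p (I ⊔ J)) + ((locIdeal p (I ⊔ J)).height : WithBot ℕ∞) :=
          add_le_add le_rfl h1
      _ = _ := by rw [← h, hd]; push_cast; rfl
  have hdI := le_depth_loc inf_le_left hI p hd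
  have hdJ := le_depth_loc inf_le_right hJ p hd
  rw [hsup] at hne hdim
  have hG := gorenstein_sum d L _ _ hd hinf hdI hdJ hne hdim
  rw [← hsup] at hG
  exact (Goren15.isGorensteinLocalRing_iff_of_ringEquiv e).1 hG

theorem le_height_sum (I J : Ideal R) [LocCoh.IsGorensteinRing (R ⧸ (I ⊓ J))]
    [LocCoh.IsCohenMacaulayRing (R ⧸ I)] [LocCoh.IsCohenMacaulayRing (R ⧸ J)]
    [LocCoh.IsGorensteinRing (R ⧸ (I ⊔ J))]
    (hI : ∀ (q : Ideal (R ⧸ I)) [q.IsPrime],
      (q.comap (Ideal.Quotient.factor (inf_le_left : I ⊓ J ≤ I))).height = q.height)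
    (hJ : ∀ (q : Ideal (R ⧸ J)) [q.IsPrime],
      (q.comap (Ideal.Quotient.factor (inf_le_right : I ⊓ J ≤ J))).height = q.height)
    (q : Ideal (R ⧸ (I ⊔ J))) [q.IsPrime] {d : ℕ}
    (hd : (q.comap (Ideal.Quotient.factor
      (inf_le_left.trans le_sup_left : I ⊓ J ≤ I ⊔ J))).height = ((d + 1 : ℕ) : ℕ∞)) :
    (d : ℕ∞) ≤ q.height := by
  have hle : I ⊓ J ≤ I ⊔ J := inf_le_left.trans le_sup_left
  set p := q.comap (Ideal.Quotient.factor hle)
  haveI := LocCoh.IsGorensteinRing.isGorensteinLocalRing_localization (A := R ⧸ (I ⊓ J)) p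
  haveI := LocCoh.IsGorensteinRing.isGorensteinLocalRing_localization (A := R ⧸ (I ⊔ J)) q
  have hd' : ringKrullDim (Localization.AtPrime p) = ((d + 1 : ℕ) : WithBot ℕ∞) := by
    rw [IsLocalization.AtPrime.ringKrullDim_eq_height p, hd]; rfl
  have hinf : locIdeal p I ⊓ locIdeal p J = ⊥ := by
    rw [← IsLocalization.map_inf p.primeCompl]
    refine (congrArg _ (eq_bot_iff.2 fun y hy => ?_)).trans Ideal.map_bot
    obtain ⟨y, rfl⟩ := Ideal.Quotient.mk_surjective y
    rw [Ideal.mem_bot, Ideal.Quotient.eq_zero_iff_mem]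
    exact ⟨(Ideal.mem_quotient_iff_mem inf_le_left).1 hy.1, (Ideal.mem_quotient_iff_mem inf_le_right).1 hy.2⟩
  obtain ⟨e⟩ := nonempty_loc_equiv hle q
  have hC := depth_sum _ _ hinf (GorenLib.gorenstein_of_dim hd').1.ge
    (le_depth_loc inf_le_left hI p hd') (le_depth_loc inf_le_right hJ p hd')
  have hsup : locIdeal p (I ⊔ J) = locIdeal p I ⊔ locIdeal p J := by
    rw [locIdeal, Ideal.map_sup, Ideal.map_sup]
  rw [← hsup, ← depth_self_eq _ e] at hC
  have hdim := le_trans (WithBot.coe_le_coe.2 hC) DepthLib.depth_le_supportDim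
  rw [Module.supportDim_self_eq_ringKrullDim, IsLocalization.AtPrime.ringKrullDim_eq_height q] at hdim
  exact WithBot.coe_le_coe.1 hdim

end Groth.Agent.LiaisonH1
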