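import Groth.Agent.Lib.LiaisonH1.Local

/-!
Geometric linkage: the sum of linked ideals is Gorenstein.
-/

universe u

open IsLocalRing CategoryTheory Abelian Pointwise

namespace Groth.Agent.LiaisonH1

variable {A : Type u} [CommRing A]

theorem depth_sum [IsLocalRing A] [IsNoetherianRing A] (I J : Ideal A) (hIJ : I ⊓ J = ⊥) {d : ℕ}
    (hA : ((d + 1 : ℕ) : ℕ∞) ≤ LocCoh.depth A A) (hI : ((d + 1 : ℕ) : ℕ∞) ≤ LocCoh.depth A (A ⧸ I))
    (hJ : ((d + 1 : ℕ) : ℕ∞) ≤ LocCoh.depth A (A ⧸ J)) :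
    (d : ℕ∞) ≤ LocCoh.depth A (A ⧸ (I ⊔ J)) := by
  let α : A →ₗ[A] (A ⧸ I) × (A ⧸ J) := (Submodule.mkQ I).prod (Submodule.mkQ J)
  let β : (A ⧸ I) × (A ⧸ J) →ₗ[A] A ⧸ (I ⊔ J) :=
    (Submodule.factor le_sup_left).coprod (-(Submodule.factor le_sup_right))
  have hα : Function.Injective α := by
    rw [injective_iff_map_eq_zero]
    intro a ha
    have ha' : a ∈ I ⊓ J := ⟨(Submodule.Quotient.mk_eq_zero I).1 (congrArg Prod.fst ha),
      (Submodule.Quotient.mk_eq_zero J).1 (congrArg Prod.snd ha)⟩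
    rwa [hIJ] at ha'
  have hβ : Function.Surjective β := fun z => by
    obtain ⟨z, rfl⟩ := Submodule.mkQ_surjective _ z
    exact ⟨(Submodule.mkQ I z, 0), by simp [β]⟩
  have hex : Function.Exact α β := by
    rintro ⟨p, q⟩
    obtain ⟨p, rfl⟩ := Submodule.mkQ_surjective _ p
    obtain ⟨q, rfl⟩ := Submodule.mkQ_surjective _ q
    constructor
    · intro h
      have h' : p - q ∈ I ⊔ J := by
        rw [← Submodule.Quotient.mk_eq_zero]
        simpa [β, sub_eq_add_neg] using h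
      obtain ⟨i, hi, j, hj, hij⟩ := Submodule.mem_sup.1 h'
      refine ⟨p - i, Prod.ext ((Submodule.Quotient.eq I).2 (by simpa using I.neg_mem hi))
        ((Submodule.Quotient.eq J).2 ?_)⟩
      rwa [show p - i - q = j by linear_combination -hij]
    · rintro ⟨a, ha⟩
      rw [← ha]
      simp [α, β]
  have hS := DepthLib.shortExact_of_linearMap hα hβ hex
  refine le_trans (le_min ?_ ?_) (DepthLib.idealDepth_shortExact (I := maximalIdeal A) hS).2.1
  · exact le_trans (by exact_mod_cast Nat.le_succ d) (depth_prod hI hJ)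
  · exact ENat.le_sub_of_add_le_right ENat.one_ne_top (by exact_mod_cast hA)

theorem gorenstein_sum : ∀ (d : ℕ) (A : Type u) [CommRing A] [LocCoh.IsGorensteinLocalRing A]
    (I J : Ideal A), ringKrullDim A = ((d + 1 : ℕ) : WithBot ℕ∞) → I ⊓ J = ⊥ →
    ((d + 1 : ℕ) : ℕ∞) ≤ LocCoh.depth A (A ⧸ I) → ((d + 1 : ℕ) : ℕ∞) ≤ LocCoh.depth A (A ⧸ J) →
    I ⊔ J ≠ ⊤ → ringKrullDim (A ⧸ (I ⊔ J)) ≤ (d : WithBot ℕ∞) →
    LocCoh.IsGorensteinLocalRing (A ⧸ (I ⊔ J)) := by
  intro d
  induction d with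
  | zero =>
    intro A _ _ I J hd hIJ hI hJ hne hdim
    obtain ⟨x, hx, hxA, hxM⟩ := exists_regular (M := (A ⧸ I) × (A ⧸ J))
      (GorenLib.gorenstein_of_dim hd).1.ge (depth_prod (by exact_mod_cast hI) (by exact_mod_cast hJ))
    obtain ⟨hxI, hxJ⟩ := isSMulRegular_of_prod hxM
    obtain ⟨hG, hd'⟩ := quotient_step hd hx hxA
    obtain ⟨e, -, he, hgen⟩ := GorenLib.exists_socle_artinian (A ⧸ Ideal.span {x}) (by simpa using hd')
    haveI : IsLocalHom (Ideal.Quotient.mk (Ideal.span {x})) :=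
      IsLocalHom.of_surjective _ Ideal.Quotient.mk_surjective
    haveI : Nontrivial (A ⧸ (I ⊔ J)) := Ideal.Quotient.nontrivial_iff.2 hne
    haveI : IsLocalRing (A ⧸ (I ⊔ J)) := IsLocalRing.of_surjective' _ Ideal.Quotient.mk_surjective
    haveI : IsLocalHom (Ideal.Quotient.mk (I ⊔ J)) :=
      IsLocalHom.of_surjective _ Ideal.Quotient.mk_surjective
    haveI : Ring.KrullDimLE 0 (A ⧸ (I ⊔ J)) := ringKrullDimZero_iff_ringKrullDim_eq_zero.2
      (le_antisymm (by simpa using hdim) ringKrullDim_nonneg_of_nontrivial)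
    haveI : IsArtinianRing (A ⧸ (I ⊔ J)) := IsNoetherianRing.isArtinianRing_of_krullDimLE_zero
    set q := Ideal.Quotient.mk (Ideal.span {x})
    -- transfer of socle elements
    have key : ∀ y : A, (∀ a ∈ maximalIdeal (A ⧸ (I ⊔ J)), a * Ideal.Quotient.mk (I ⊔ J) y = 0) →
        ∃ i ∈ I, ∃ j ∈ J, x * y = i + j ∧ ∀ a ∈ maximalIdeal (A ⧸ Ideal.span {x}), a * q i = 0 := by
      intro y hy
      have hm : ∀ a ∈ maximalIdeal A, a * y ∈ I ⊔ J := fun a ha => by
        have := hy _ ((map_mem_nonunits_iff (Ideal.Quotient.mk (I ⊔ J)) a).2 ha)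
        rwa [← map_mul, Ideal.Quotient.eq_zero_iff_mem] at this
      obtain ⟨i, hi, j, hj, hij⟩ := Submodule.mem_sup.1 (hm x hx)
      refine ⟨i, hi, j, hj, hij.symm, fun a ha => ?_⟩
      obtain ⟨a, rfl⟩ := Ideal.Quotient.mk_surjective a
      obtain ⟨i', hi', j', hj', hij'⟩ :=
        Submodule.mem_sup.1 (hm a ((map_mem_nonunits_iff q a).1 ha))
      have hz : x * i' - a * i ∈ I ⊓ J := by
        refine ⟨I.sub_mem (I.mul_mem_left _ hi') (I.mul_mem_left _ hi), ?_⟩
        rw [show x * i' - a * i = -(x * j' - a * j) by linear_combination x * hij' - a * hij]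
        exact J.neg_mem (J.sub_mem (J.mul_mem_left _ hj') (J.mul_mem_left _ hj))
      rw [hIJ, Ideal.mem_bot, sub_eq_zero] at hz
      rw [← map_mul, Ideal.Quotient.eq_zero_iff_mem, ← hz]
      exact Ideal.mul_mem_right _ _ (Ideal.mem_span_singleton_self x)
    have kill : ∀ y i j : A, i ∈ I → j ∈ J → x * y = i + j → q i = 0 → y ∈ I ⊔ J := by
      intro y i j hi hj h hq
      obtain ⟨w, rfl⟩ := Ideal.mem_span_singleton'.1 (Ideal.Quotient.eq_zero_iff_mem.1 hq)
      have hw : w ∈ I := mem_of_regular hxI (by rwa [mul_comm])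
      have hyw : y - w ∈ J := mem_of_regular hxJ (by rwa [show x * (y - w) = j by linear_combination h])
      simpa using Submodule.add_mem_sup hw hyw
    refine gorenstein_of_socle _ fun y y' hy0 hy hy' => ?_
    obtain ⟨y, rfl⟩ := Ideal.Quotient.mk_surjective y
    obtain ⟨y', rfl⟩ := Ideal.Quotient.mk_surjective y'
    obtain ⟨i, hi, j, hj, h, hs⟩ := key y hy
    obtain ⟨i', hi', j', hj', h', hs'⟩ := key y' hy'
    obtain ⟨c, hc⟩ := hgen _ hs
    obtain ⟨c', hc'⟩ := hgen _ hs'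
    have hcu : IsUnit c := by
      by_contra hcn
      exact hy0 (Ideal.Quotient.eq_zero_iff_mem.2 (kill y i j hi hj h (by rw [hc]; exact he c hcn)))
    obtain ⟨u, rfl⟩ := hcu
    obtain ⟨s, hs⟩ := Ideal.Quotient.mk_surjective (c' * (↑(u⁻¹) : A ⧸ Ideal.span {x}))
    refine ⟨Ideal.Quotient.mk _ s, ?_⟩
    rw [← map_mul, ← sub_eq_zero, ← map_sub, Ideal.Quotient.eq_zero_iff_mem]
    refine kill _ (i' - s * i) (j' - s * j) (I.sub_mem hi' (I.mul_mem_left _ hi))
      (J.sub_mem hj' (J.mul_mem_left _ hj)) (by linear_combination h' - s * h) ?_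
    rw [map_sub, map_mul, hs, hc, hc', mul_assoc, Units.inv_mul_cancel_left, sub_self]
  | succ d ih =>
    intro A _ _ I J hd hIJ hI hJ hne hdim
    have hA := (GorenLib.gorenstein_of_dim hd).1.ge
    have h1 : (1 : ℕ∞) ≤ ((d + 1 + 1 : ℕ) : ℕ∞) := by exact_mod_cast Nat.le_add_left 1 (d + 1)
    have hC := depth_sum I J hIJ hA hI hJ
    obtain ⟨x, hx, hxA, hxM⟩ := exists_regular (M := ((A ⧸ I) × (A ⧸ J)) × (A ⧸ (I ⊔ J))) hA
      (depth_prod (depth_prod (h1.trans hI) (h1.trans hJ))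
        (le_trans (by exact_mod_cast Nat.le_add_left 1 d) hC))
    obtain ⟨hxIJ, hxC⟩ := isSMulRegular_of_prod hxM
    obtain ⟨hxI, hxJ⟩ := isSMulRegular_of_prod hxIJ
    obtain ⟨hG, hd'⟩ := quotient_step hd hx hxA
    set q := Ideal.Quotient.mk (Ideal.span {x})
    have hinf : I.map q ⊓ J.map q = ⊥ := by
      refine eq_bot_iff.2 fun z hz => ?_
      obtain ⟨i, hi, rfl⟩ := (Ideal.mem_map_iff_of_surjective q Ideal.Quotient.mk_surjective).1 hz.1
      obtain ⟨j, hj, hij⟩ := (Ideal.mem_map_iff_of_surjective q Ideal.Quotient.mk_surjective).1 hz.2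
      obtain ⟨t, ht⟩ := Ideal.mem_span_singleton'.1 (Ideal.Quotient.eq.1 hij.symm)
      have ht' : t ∈ I ⊔ J := mem_of_regular hxC (by
        rw [mul_comm, ht]; exact Submodule.sub_mem _ (Submodule.mem_sup_left hi) (Submodule.mem_sup_right hj))
      obtain ⟨i', hi', j', hj', rfl⟩ := Submodule.mem_sup.1 ht'
      have hzero : i - i' * x ∈ I ⊓ J := by
        refine ⟨I.sub_mem hi (I.mul_mem_right _ hi'), ?_⟩
        rw [show i - i' * x = j + j' * x by linear_combination -ht]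
        exact J.add_mem hj (J.mul_mem_right _ hj')
      rw [hIJ, Ideal.mem_bot, sub_eq_zero] at hzero
      rw [Ideal.mem_bot, Ideal.Quotient.eq_zero_iff_mem, hzero]
      exact Ideal.mul_mem_left _ _ (Ideal.mem_span_singleton_self x)
    have hsup : (I ⊔ J).map q = I.map q ⊔ J.map q := Ideal.map_sup q I J
    have hle : (I ⊔ J) ⊔ Ideal.span {x} ≤ maximalIdeal A :=
      sup_le (le_maximalIdeal hne) ((Ideal.span_singleton_le_iff_mem _).2 hx)
    have hne' : (I ⊔ J).map q ≠ ⊤ := fun h => by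
      have := congrArg (Ideal.comap q) h
      rw [Ideal.comap_map_of_surjective q Ideal.Quotient.mk_surjective, ← RingHom.ker_eq_comap_bot,
        Ideal.mk_ker, Ideal.comap_top] at this
      exact (maximalIdeal.isMaximal A).ne_top (top_le_iff.1 (this ▸ hle))
    have hdim' : ringKrullDim ((A ⧸ Ideal.span {x}) ⧸ (I ⊔ J).map q) ≤ (d : WithBot ℕ∞) := by
      haveI : Nontrivial (A ⧸ (I ⊔ J)) := Ideal.Quotient.nontrivial_iff.2 hne
      haveI : IsLocalRing (A ⧸ (I ⊔ J)) := IsLocalRing.of_surjective' _ Ideal.Quotient.mk_surjective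
      haveI : IsLocalHom (Ideal.Quotient.mk (I ⊔ J)) :=
        IsLocalHom.of_surjective _ Ideal.Quotient.mk_surjective
      have h2 := GorenLib.ringKrullDim_quotient_add_one
        ((map_mem_nonunits_iff (Ideal.Quotient.mk (I ⊔ J)) x).2 hx)
        (fun a b hab => hxC (by simpa [Algebra.smul_def] using hab) :
          IsSMulRegular (A ⧸ (I ⊔ J)) (Ideal.Quotient.mk (I ⊔ J) x))
      rw [ringKrullDim_eq_of_ringEquiv ((DoubleQuot.quotQuotEquivQuotSup (Ideal.span {x}) (I ⊔ J)).trans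
        ((Ideal.quotEquivOfEq (sup_comm _ _)).trans
          ((DoubleQuot.quotQuotEquivQuotSup (I ⊔ J) (Ideal.span {x})).symm.trans
            (Ideal.quotEquivOfEq (by rw [Ideal.map_span, Set.image_singleton])))))]
      refine DepthLib.withBot_add_coe_cancel 1 ?_
      push_cast at hdim ⊢
      exact h2.le.trans hdim
    have h := ih (A ⧸ Ideal.span {x}) (I.map q) (J.map q) hd' hinf
      ((depth_quot_step I hx hxI (d + 1)).1 hI) ((depth_quot_step J hx hxJ (d + 1)).1 hJ)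
      (hsup ▸ hne') (by rw [← hsup]; exact hdim')
    rw [← hsup] at h
    exact gorenstein_of_quotient hx hxC hne h

end Groth.Agent.LiaisonH1
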