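import Groth.Agent.Lib.LiaisonH1.Geometric
import Groth.Agent.Lib.LiaisonH1.Vanish
import Groth.Agent.Lib.EffCartier.Mul
import Groth.Agent.Lib.Goren15.Polynomial
import Groth.Agent.Lib.Goren.GorenQuot27
import Groth.Agent.Lib.Goren.CMHeight27
import Groth.Agent.S0342

/-!
Globalization of the linkage theorems to homogeneous ideals.
-/

universe u

open IsLocalRing MvPolynomial

namespace Groth.Agent.LiaisonH1

section General

variable {R : Type u} [CommRing R] {𝔠 : Ideal R}

/-- The localized ideal. -/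
noncomputable abbrev locIdeal (p : Ideal (R ⧸ 𝔠)) [p.IsPrime] (I : Ideal R) :
    Ideal (Localization.AtPrime p) :=
  (I.map (Ideal.Quotient.mk 𝔠)).map (algebraMap (R ⧸ 𝔠) (Localization.AtPrime p))

theorem locIdeal_colon [IsNoetherianRing R] (p : Ideal (R ⧸ 𝔠)) [p.IsPrime] (I : Ideal R) :
    locIdeal p (𝔠.colon (I : Set R)) =
      (⊥ : Ideal (Localization.AtPrime p)).colon (locIdeal p I : Set (Localization.AtPrime p)) := by
  have h : (𝔠.colon (I : Set R)).map (Ideal.Quotient.mk 𝔠) =
      (⊥ : Ideal (R ⧸ 𝔠)).colon (I.map (Ideal.Quotient.mk 𝔠) : Set (R ⧸ 𝔠)) := by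
    ext y
    obtain ⟨y, rfl⟩ := Ideal.Quotient.mk_surjective y
    have hle : 𝔠 ≤ 𝔠.colon (I : Set R) := fun a ha => Submodule.mem_colon.2 fun i _ => 𝔠.mul_mem_right i ha
    rw [Ideal.mem_quotient_iff_mem hle, Submodule.mem_colon, mem_colon_iff]
    constructor
    · intro h i hi
      obtain ⟨i, hi', rfl⟩ := (Ideal.mem_map_iff_of_surjective _ Ideal.Quotient.mk_surjective).1 hi
      rw [← map_mul, Ideal.Quotient.eq_zero_iff_mem]
      exact h i hi'
    · intro h i hi
      rw [smul_eq_mul, ← Ideal.Quotient.eq_zero_iff_mem, map_mul]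
      exact h _ (Ideal.mem_map_of_mem _ hi)
  rw [locIdeal, h, EffCartier.map_colon (Localization.AtPrime p) p.primeCompl ⊥ _ (IsNoetherian.noetherian _),
    Ideal.map_bot]


theorem depth_top_of_subsingleton {R M : Type u} [CommRing R] [IsLocalRing R] [AddCommGroup M]
    [Module R M] [Subsingleton M] : LocCoh.depth R M = ⊤ :=
  DepthLib.idealDepth_of_smul_top_eq_top (Subsingleton.elim _ _)


theorem exists_over {J : Ideal R} (hle : 𝔠 ≤ J) (p : Ideal (R ⧸ 𝔠)) [p.IsPrime]
    (hJp : J ≤ p.comap (Ideal.Quotient.mk 𝔠)) :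
    ∃ q : Ideal (R ⧸ J), q.IsPrime ∧ q.comap (Ideal.Quotient.factor hle) = p := by
  refine ⟨(p.comap (Ideal.Quotient.mk 𝔠)).map (Ideal.Quotient.mk J),
    Ideal.map_isPrime_of_surjective Ideal.Quotient.mk_surjective (by rwa [Ideal.mk_ker]), ?_⟩
  ext y
  obtain ⟨y, rfl⟩ := Ideal.Quotient.mk_surjective y
  rw [Ideal.mem_comap, Ideal.Quotient.factor_mk, Ideal.mem_quotient_iff_mem hJp, Ideal.mem_comap]

theorem locIdeal_eq_top {J : Ideal R} (p : Ideal (R ⧸ 𝔠)) [p.IsPrime]
    (hJp : ¬ J ≤ p.comap (Ideal.Quotient.mk 𝔠)) : locIdeal p J = ⊤ := by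
  obtain ⟨a, ha, hap⟩ := SetLike.not_le_iff_exists.1 hJp
  exact Ideal.eq_top_of_isUnit_mem _ (Ideal.mem_map_of_mem _ (Ideal.mem_map_of_mem _ ha))
    (IsLocalization.map_units _ (⟨_, hap⟩ : p.primeCompl))


theorem locIdeal_ne_top {J : Ideal R} (hle : 𝔠 ≤ J) (q : Ideal (R ⧸ J)) [q.IsPrime] :
    locIdeal (q.comap (Ideal.Quotient.factor hle)) J ≠ ⊤ := by
  refine ne_top_of_le_ne_top (maximalIdeal.isMaximal _).ne_top ?_
  rw [← Localization.AtPrime.map_eq_maximalIdeal]
  refine Ideal.map_mono (Ideal.map_le_iff_le_comap.2 fun a ha => ?_)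
  rw [Ideal.mem_comap, Ideal.mem_comap, Ideal.Quotient.factor_mk, Ideal.Quotient.eq_zero_iff_mem.2 ha]
  exact q.zero_mem

theorem nonempty_loc_equiv {J : Ideal R} (hle : 𝔠 ≤ J) (q : Ideal (R ⧸ J)) [q.IsPrime] :
    Nonempty ((Localization.AtPrime (q.comap (Ideal.Quotient.factor hle)) ⧸
      locIdeal (q.comap (Ideal.Quotient.factor hle)) J) ≃+* Localization.AtPrime q) := by
  obtain ⟨e⟩ := Goren15.nonempty_localization_quotient_equiv (Ideal.Quotient.factor hle)
    (Ideal.Quotient.factor_surjective hle) q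
  exact ⟨(Ideal.quotEquivOfEq (by rw [Ideal.Quotient.factor_ker hle])).trans e⟩


theorem depth_loc_aux [LocCoh.IsGorensteinRing (R ⧸ 𝔠)] {J : Ideal R} [LocCoh.IsCohenMacaulayRing (R ⧸ J)]
    (hle : 𝔠 ≤ J)
    (hht : ∀ (q : Ideal (R ⧸ J)) [q.IsPrime], (q.comap (Ideal.Quotient.factor hle)).height = q.height)
    (p : Ideal (R ⧸ 𝔠)) [p.IsPrime] (q : Ideal (R ⧸ J)) [q.IsPrime]
    (hpq : q.comap (Ideal.Quotient.factor hle) = p) :
    ((LocCoh.depth (Localization.AtPrime p) (Localization.AtPrime p ⧸ locIdeal p J) : ℕ∞) : WithBot ℕ∞) =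
      ringKrullDim (Localization.AtPrime p) := by
  subst hpq
  set π := Ideal.Quotient.factor hle
  have hπ : Function.Surjective π := Ideal.Quotient.factor_surjective hle
  set ψ := Localization.localRingHom (q.comap π) q π rfl
  have hψ : Function.Surjective ψ := RingHom.surjective_localRingHom_of_surjective π hπ q
  have hker : RingHom.ker ψ = locIdeal (q.comap π) J := by
    refine le_antisymm (fun x hx => ?_) (Ideal.map_le_iff_le_comap.2 fun a ha => ?_)
    · obtain ⟨a, s, rfl⟩ := IsLocalization.exists_mk'_eq (q.comap π).primeCompl x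
      rw [RingHom.mem_ker, Localization.localRingHom_mk', IsLocalization.mk'_eq_zero_iff] at hx
      obtain ⟨⟨t, ht⟩, hta⟩ := hx
      obtain ⟨t', rfl⟩ := hπ t
      rw [IsLocalization.mk'_mem_iff,
        ← Ideal.unit_mul_mem_iff_mem _ (IsLocalization.map_units _ (⟨t', ht⟩ : (q.comap π).primeCompl)),
        ← map_mul]
      refine Ideal.mem_map_of_mem _ ?_
      rw [← Ideal.Quotient.factor_ker hle, RingHom.mem_ker, map_mul]
      exact hta
    · rw [← Ideal.Quotient.factor_ker hle, RingHom.mem_ker] at ha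
      show ψ (algebraMap (R ⧸ 𝔠) _ a) = 0
      rw [Localization.localRingHom_to_map, ha, map_zero]
  letI : Algebra (Localization.AtPrime (q.comap π)) (Localization.AtPrime q) := ψ.toAlgebra
  let e : (Localization.AtPrime (q.comap π) ⧸ locIdeal (q.comap π) J) ≃ₗ[Localization.AtPrime (q.comap π)]
      Localization.AtPrime q :=
    (Submodule.quotEquivOfEq _ _ hker.symm).trans
      (Ideal.quotientKerAlgEquivOfSurjective (f := Algebra.ofId (Localization.AtPrime (q.comap π))
        (Localization.AtPrime q)) hψ).toLinearEquiv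
  haveI := LocCoh.IsGorensteinRing.isGorensteinLocalRing_localization (A := R ⧸ 𝔠) (q.comap π)
  haveI := LocCoh.IsCohenMacaulayRing.isCohenMacaulayLocalRing_localization (R := R ⧸ J) q
  rw [LocCoh.depth, DepthLib.idealDepth_congr e,
    ← GorenLib.idealDepth_map_of_surjective (A := Localization.AtPrime (q.comap π))
      (B := Localization.AtPrime q) hψ,
    show (maximalIdeal (Localization.AtPrime (q.comap π))).map (algebraMap _ (Localization.AtPrime q)) =
      maximalIdeal (Localization.AtPrime q) from GorenLib.map_maximalIdeal_eq hψ]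
  have h1 := LocCoh.IsCohenMacaulayLocalRing.supportDim_eq_depth (R := Localization.AtPrime q)
  rw [Module.supportDim_self_eq_ringKrullDim, IsLocalization.AtPrime.ringKrullDim_eq_height q] at h1
  rw [IsLocalization.AtPrime.ringKrullDim_eq_height (q.comap π)]
  refine h1.symm.trans ?_
  rw [WithBot.coe_inj]
  exact (hht q).symm

/-- A Cohen–Macaulay quotient of the same height is maximal Cohen–Macaulay. -/
theorem le_depth_loc [LocCoh.IsGorensteinRing (R ⧸ 𝔠)] {J : Ideal R} [LocCoh.IsCohenMacaulayRing (R ⧸ J)]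
    (hle : 𝔠 ≤ J)
    (hht : ∀ (q : Ideal (R ⧸ J)) [q.IsPrime], (q.comap (Ideal.Quotient.factor hle)).height = q.height)
    (p : Ideal (R ⧸ 𝔠)) [p.IsPrime] {d : ℕ} (hd : ringKrullDim (Localization.AtPrime p) = d) :
    (d : ℕ∞) ≤ LocCoh.depth (Localization.AtPrime p) (Localization.AtPrime p ⧸ locIdeal p J) := by
  by_cases hJp : J ≤ p.comap (Ideal.Quotient.mk 𝔠)
  · obtain ⟨q, hq, hpq⟩ := exists_over hle p hJp
    have h := depth_loc_aux hle hht p q hpq
    rw [hd] at h
    exact le_of_eq (WithBot.coe_injective h).symm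
  · haveI : Subsingleton (Localization.AtPrime p ⧸ locIdeal p J) :=
      Ideal.Quotient.subsingleton_iff.2 (locIdeal_eq_top p hJp)
    rw [depth_top_of_subsingleton]
    exact le_top

end General

variable {K : Type u} [Field K] {n : ℕ}

local notation "S" => MvPolynomial (Fin (n + 1)) K

theorem height_eq_of_minimal {J : Ideal S} (hJ : J.IsHomogeneous (GrSyz.stdGr K (Fin (n + 1))))
    [LocCoh.IsCohenMacaulayRing (S ⧸ J)] {p : Ideal S} (hp : p ∈ J.minimalPrimes) :
    p.height = J.height :=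
  height_eq_of_mem_associatedPrimes J hJ (minimalPrimes_subset_associatedPrimes J hp)

theorem height_comap_eq {J : Ideal S} (hJ : J.IsHomogeneous (GrSyz.stdGr K (Fin (n + 1))))
    [LocCoh.IsCohenMacaulayRing (S ⧸ J)] (q : Ideal (S ⧸ J)) [q.IsPrime] :
    (q.comap (Ideal.Quotient.mk J)).height = q.height + J.height := by
  set P := q.comap (Ideal.Quotient.mk J)
  have hJP : J ≤ P := fun a ha => by
    rw [Ideal.mem_comap, Ideal.Quotient.eq_zero_iff_mem.2 ha]; exact q.zero_mem
  have hq : P.map (Ideal.Quotient.mk J) = q := Ideal.map_comap_of_surjective _ Ideal.Quotient.mk_surjective q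
  haveI : (P.map (Ideal.Quotient.mk J)).IsPrime := by rw [hq]; infer_instance
  obtain ⟨p, hp, hpP⟩ := Ideal.exists_minimalPrimes_le hJP
  have h := dim_atPrime J hp P hpP
  have e1 := IsLocalization.AtPrime.ringKrullDim_eq_height P (Localization.AtPrime P)
  have e2 := IsLocalization.AtPrime.ringKrullDim_eq_height (P.map (Ideal.Quotient.mk J))
    (Localization.AtPrime (P.map (Ideal.Quotient.mk J)))
  rw [e1] at h
  replace h := h.trans (congrArg (· + (p.height : WithBot ℕ∞)) e2)
  rw [← WithBot.coe_add, WithBot.coe_inj, height_eq_of_minimal hJ hp] at h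
  rw [h, hq]

theorem height_comap_factor {𝔠 J : Ideal (MvPolynomial (Fin (n + 1)) K)}
    (h𝔠 : 𝔠.IsHomogeneous (GrSyz.stdGr K (Fin (n + 1)))) [LocCoh.IsCohenMacaulayRing (S ⧸ 𝔠)]
    (hJ : J.IsHomogeneous (GrSyz.stdGr K (Fin (n + 1)))) [LocCoh.IsCohenMacaulayRing (S ⧸ J)]
    (hle : 𝔠 ≤ J) {c : ℕ} (h𝔠c : 𝔠.height = c) (hJc : J.height = c) (q : Ideal (S ⧸ J)) [q.IsPrime] :
    (q.comap (Ideal.Quotient.factor hle)).height = q.height := by
  have h2 := height_comap_eq h𝔠 (q.comap (Ideal.Quotient.factor hle))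
  rw [Ideal.comap_comap, Ideal.Quotient.factor_comp_mk hle, height_comap_eq hJ q, hJc, h𝔠c] at h2
  exact (ENat.add_left_injective_of_ne_top (ENat.natCast_ne_top c) h2).symm

/-- A homogeneous complete intersection is Gorenstein. -/
theorem gorenstein_of_completeIntersection {c : ℕ} (g : Fin c → S) (𝔠 : Ideal S)
    (hg : Ideal.span (Set.range g) = 𝔠) (h𝔠c : 𝔠.height = c) : LocCoh.IsGorensteinRing (S ⧸ 𝔠) := by
  refine ⟨fun q _ => ?_⟩
  let π := Ideal.Quotient.mk 𝔠
  obtain ⟨e⟩ := Goren15.nonempty_localization_quotient_equiv π Ideal.Quotient.mk_surjective q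
  let L := Localization.AtPrime (q.comap π)
  haveI : IsRegularLocalRing L := inferInstance
  haveI := Groth.Agent.S0342.result L
  haveI := DepthLib.isCohenMacaulayLocalRing_of_isRegularLocalRing (R := L)
  let l : List L := (List.ofFn g).map (algebraMap S L)
  have hl : Ideal.ofList l = (RingHom.ker π).map (algebraMap S L) := by
    rw [Ideal.mk_ker]
    refine Eq.trans ?_ (congrArg (Ideal.map (algebraMap _ L)) hg)
    rw [← Ideal.map_ofList, Ideal.ofList]
    congr 2
    ext x
    simp [List.mem_ofFn]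
  have hle : Ideal.ofList l ≤ maximalIdeal L := by
    rw [hl, ← Localization.AtPrime.map_eq_maximalIdeal]
    exact Ideal.map_mono (Ideal.comap_mono bot_le)
  have hm : ∀ x ∈ l, x ∈ maximalIdeal L := fun x hx => hle (Ideal.subset_span hx)
  have hreg : RingTheory.Sequence.IsWeaklyRegular L l := by
    refine DepthLib.isWeaklyRegular_of_length_le_idealDepth l hm ?_
    rw [GorenLib.idealDepth_eq_height _ (ne_top_of_le_ne_top (maximalIdeal.isMaximal L).ne_top hle), hl,
      Ideal.mk_ker, show l.length = c by simp [l], ← h𝔠c]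
    exact (Ideal.height_mono Ideal.le_comap_map).trans (IsLocalization.height_comap (q.comap π).primeCompl _).le
  have hG := GorenLib.gorenstein_quotient_ofList _ L l rfl hreg hm
  exact (Goren15.isGorensteinLocalRing_iff_of_ringEquiv ((Ideal.quotEquivOfEq hl).trans e)).1 hG

end Groth.Agent.LiaisonH1
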