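import Groth.Prelude.Def_CAlg
import Groth.Prelude.Def_GrSyz
import Groth.Agent.Lib.Goren.Basic
import Groth.Agent.Lib.Depth.CM
import Groth.Agent.Lib.FlatDepth.FormalCM
import Groth.Agent.Lib.GrSyz.Basic
import Mathlib

/-!
# Unmixedness of homogeneous ideals with Gorenstein quotient
-/

universe u

namespace Groth.Agent.LiaisonH1

open MvPolynomial IsLocalRing

variable (K : Type u) [Field K] (n : ℕ)

local notation "S" => MvPolynomial (Fin (n + 1)) K

/-- The irrelevant ideal. -/
noncomputable abbrev irr : Ideal S := RingHom.ker (constantCoeff (R := K) (σ := Fin (n + 1)))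

instance irr_isMaximal : (irr K n).IsMaximal :=
  RingHom.ker_isMaximal_of_surjective _ fun a => ⟨C a, constantCoeff_C _ a⟩

variable {K n}

theorem le_irr {P : Ideal S} (hP : P.IsHomogeneous (GrSyz.stdGr K (Fin (n + 1)))) (hne : P ≠ ⊤) :
    P ≤ irr K n := by
  rw [← hP.toIdeal_homogeneousCore_eq_self]
  refine Ideal.span_le.mpr ?_
  rintro _ ⟨⟨x, d, hx⟩, hxP, rfl⟩
  rw [SetLike.mem_coe, RingHom.mem_ker]
  rcases eq_or_ne d 0 with rfl | hd
  · by_contra hc
    refine hne (Ideal.eq_top_of_isUnit_mem _ hxP ?_)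
    change IsUnit x
    rw [GrSyzLib.eq_C_of_mem_zero hx]
    exact (isUnit_iff_ne_zero.mpr hc).map C
  · exact GrSyzLib.constantCoeff_eq_zero hd hx

theorem isHomogeneous_of_mem_minimalPrimes {J P : Ideal S}
    (hJ : J.IsHomogeneous (GrSyz.stdGr K (Fin (n + 1)))) (hP : P ∈ J.minimalPrimes) :
    P.IsHomogeneous (GrSyz.stdGr K (Fin (n + 1))) := by
  rw [Ideal.IsHomogeneous.iff_eq]
  refine le_antisymm (Ideal.toIdeal_homogeneousCore_le _ _) (hP.2 ⟨hP.1.1.homogeneousCore, ?_⟩
    (Ideal.toIdeal_homogeneousCore_le _ _))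
  have := Ideal.homogeneousCore_mono (GrSyz.stdGr K (Fin (n + 1))) hP.1.2
  rw [← hJ.toIdeal_homogeneousCore_eq_self]
  exact this

theorem ringKrullDim_eq_zero_of_mem {A : Type u} [CommRing A] [LocCoh.IsCohenMacaulayLocalRing A]
    (hm : maximalIdeal A ∈ associatedPrimes A A) : ringKrullDim A = 0 := by
  have hCM : LocCoh.IsCohenMacaulayModule A A :=
    LocCoh.IsCohenMacaulayLocalRing.supportDim_eq_depth
  have h1 := DepthLib.ringKrullDim_quotient_eq_of_mem_associatedPrimes hCM hm
  rw [Module.supportDim_self_eq_ringKrullDim] at h1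
  rw [← h1]
  exact ringKrullDim_eq_zero_of_field (ResidueField A)

theorem dim_aux {L A : Type u} [CommRing L] [CommRing A] [LocCoh.IsCohenMacaulayLocalRing L]
    [LocCoh.IsCohenMacaulayLocalRing A] (φ : L →+* A) (hφ : Function.Surjective φ) (P : Ideal A)
    [P.IsPrime] (hP : P.height = 0) :
    ringKrullDim L = ringKrullDim A + ((P.comap φ).height : WithBot ℕ∞) := by
  let ψ : L →+* A ⧸ P := (Ideal.Quotient.mk P).comp φ
  have hψ : Function.Surjective ψ := Ideal.Quotient.mk_surjective.comp hφ
  have hker : RingHom.ker ψ = P.comap φ := by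
    rw [RingHom.ker_eq_comap_bot, ← Ideal.comap_comap, ← RingHom.ker_eq_comap_bot, Ideal.mk_ker]
  have h1 : ringKrullDim A = ringKrullDim (A ⧸ P) := by
    rw [FlatDepth.dim_quotient_add_height A P, hP]; simp
  rw [h1, ← ringKrullDim_eq_of_ringEquiv (RingHom.quotientKerEquivOfSurjective hψ), hker]
  exact FlatDepth.dim_quotient_add_height L _

instance isCohenMacaulayRing_of_isGorensteinRing {R : Type u} [CommRing R]
    [LocCoh.IsGorensteinRing R] : LocCoh.IsCohenMacaulayRing R :=
  { (inferInstance : IsNoetherianRing R) with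
    isCohenMacaulayLocalRing_localization := fun q _ =>
      haveI := LocCoh.IsGorensteinRing.isGorensteinLocalRing_localization q
      GorenLib.isCohenMacaulayLocalRing_of_gorenstein }

theorem isCM_localization (J : Ideal S) [LocCoh.IsCohenMacaulayRing (S ⧸ J)] (q : Ideal (S ⧸ J))
    [q.IsPrime] : LocCoh.IsCohenMacaulayLocalRing (Localization.AtPrime q) :=
  LocCoh.IsCohenMacaulayRing.isCohenMacaulayLocalRing_localization q

/-- Associated primes of a Cohen–Macaulay quotient are minimal. -/
theorem mem_minimalPrimes_of_mem_associatedPrimes (J : Ideal S) [LocCoh.IsCohenMacaulayRing (S ⧸ J)]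
    {p : Ideal S} (hp : p ∈ associatedPrimes S (S ⧸ J)) : p ∈ J.minimalPrimes := by
  obtain ⟨hprime, x, hx⟩ := isAssociatedPrime_iff.1 hp
  haveI := hprime
  have hsmul : ∀ a : S, a • x = Ideal.Quotient.mk J a * x := fun a => by
    obtain ⟨x', rfl⟩ := Ideal.Quotient.mk_surjective x
    rfl
  have hJp : J ≤ p := fun a ha => by
    rw [hx, Submodule.mem_colon_singleton, Submodule.mem_bot, hsmul,
      Ideal.Quotient.eq_zero_iff_mem.mpr ha, zero_mul]
  have hmem : ∀ a : S, a ∈ p ↔ Ideal.Quotient.mk J a * x = 0 := fun a => by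
    rw [hx, Submodule.mem_colon_singleton, Submodule.mem_bot, hsmul]
  let q := p.map (Ideal.Quotient.mk J)
  haveI : q.IsPrime := Ideal.map_isPrime_of_surjective Ideal.Quotient.mk_surjective
    (by rwa [Ideal.mk_ker])
  have hq : q ∈ associatedPrimes (S ⧸ J) (S ⧸ J) := by
    refine isAssociatedPrime_iff.2 ⟨inferInstance, x, ?_⟩
    ext a
    obtain ⟨a, rfl⟩ := Ideal.Quotient.mk_surjective a
    rw [Submodule.mem_colon_singleton, Submodule.mem_bot, smul_eq_mul, ← hmem,
      Ideal.mem_quotient_iff_mem hJp]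
  let A := Localization.AtPrime q
  haveI : LocCoh.IsCohenMacaulayLocalRing A := isCM_localization J q
  have hm : maximalIdeal A ∈ associatedPrimes A A := by
    have h := Module.associatedPrimes.mem_associatedPrimes_atPrime_of_mem_associatedPrimes hq
    let e : LocalizedModule.AtPrime q (S ⧸ J) ≃ₗ[A] A :=
      ((IsLocalizedModule.iso q.primeCompl (Algebra.linearMap (S ⧸ J) A)).extendScalarsOfIsLocalization
        q.primeCompl A)
    exact (LinearEquiv.AssociatedPrimes.eq e) ▸ h
  have h2 : q.height = 0 := by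
    have := IsLocalization.AtPrime.ringKrullDim_eq_height q A
    rw [ringKrullDim_eq_zero_of_mem hm] at this
    exact WithBot.coe_injective this.symm
  refine ⟨⟨hprime, hJp⟩, fun p' hp' hle => ?_⟩
  haveI := hp'.1
  haveI : (p'.map (Ideal.Quotient.mk J)).IsPrime :=
    Ideal.map_isPrime_of_surjective Ideal.Quotient.mk_surjective (by rw [Ideal.mk_ker]; exact hp'.2)
  have hmin := Ideal.height_eq_zero_iff.mp h2
  have hle' : p.map (Ideal.Quotient.mk J) ≤ p'.map (Ideal.Quotient.mk J) :=
    hmin.2 ⟨inferInstance, bot_le⟩ (Ideal.map_mono hle)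
  intro a ha
  rw [← Ideal.mem_quotient_iff_mem hp'.2]
  exact hle' (Ideal.mem_map_of_mem _ ha)

theorem exists_dim_eq (A : Type u) [CommRing A] [IsLocalRing A] [IsNoetherianRing A] :
    ∃ d : ℕ, ringKrullDim A = d := by
  obtain ⟨d, hd⟩ := DepthLib.exists_supportDim_eq_natCast (R := A) (M := A)
  exact ⟨d, by rwa [Module.supportDim_self_eq_ringKrullDim] at hd⟩

theorem dim_loc {R A L : Type u} [CommRing R] [CommRing A] [Algebra R A] (M : Submonoid R)
    [IsLocalization M A] [CommRing L] [LocCoh.IsCohenMacaulayLocalRing L]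
    [LocCoh.IsCohenMacaulayLocalRing A] (φ : L →+* A) (hφ : Function.Surjective φ)
    (p : Ideal R) (hp : p ∈ minimalPrimes R) (hd : Disjoint (M : Set R) p) :
    ((p.map (algebraMap R A)).comap φ).IsPrime ∧
      (p.map (algebraMap R A)).comap (algebraMap R A) = p ∧
      ringKrullDim L = ringKrullDim A + (((p.map (algebraMap R A)).comap φ).height : WithBot ℕ∞) := by
  haveI hpp : p.IsPrime := hp.1.1
  haveI hP : (p.map (algebraMap R A)).IsPrime :=
    IsLocalization.isPrime_of_isPrime_disjoint M A _ hpp hd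
  have hPc : (p.map (algebraMap R A)).comap (algebraMap R A) = p :=
    IsLocalization.under_map_of_isPrime_disjoint M A hpp hd
  refine ⟨inferInstance, hPc, dim_aux φ hφ _ ?_⟩
  have e := IsLocalization.height_comap M (p.map (algebraMap R A))
  rw [Ideal.under_def, hPc] at e
  rw [← e, Ideal.height_eq_zero_iff]
  exact hp

/-- The height formula at a prime over an ideal with Cohen–Macaulay quotient. -/
theorem dim_atPrime (J : Ideal S) [LocCoh.IsCohenMacaulayRing (S ⧸ J)] {p : Ideal S}
    (hp : p ∈ J.minimalPrimes) (m : Ideal S) [m.IsPrime] (hpm : p ≤ m)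
    [(m.map (Ideal.Quotient.mk J)).IsPrime] :
    ringKrullDim (Localization.AtPrime m) =
      ringKrullDim (Localization.AtPrime (m.map (Ideal.Quotient.mk J))) +
        (p.height : WithBot ℕ∞) := by
  haveI := hp.1.1
  let π := Ideal.Quotient.mk J
  let q := m.map π
  let A := Localization.AtPrime q
  haveI : LocCoh.IsCohenMacaulayLocalRing A := isCM_localization J q
  let L := Localization.AtPrime (m)
  have hcomap : m = q.comap π := by
    rw [Ideal.comap_map_of_surjective π Ideal.Quotient.mk_surjective, ← RingHom.ker_eq_comap_bot,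
      Ideal.mk_ker, sup_eq_left.mpr (hp.1.2.trans hpm)]
  let φ : L →+* A := Localization.localRingHom (m) q π hcomap
  have hφ : Function.Surjective φ := by
    intro y
    obtain ⟨a, s, rfl⟩ := IsLocalization.exists_mk'_eq q.primeCompl y
    obtain ⟨a, rfl⟩ := Ideal.Quotient.mk_surjective a
    obtain ⟨s, hs⟩ := s
    obtain ⟨s, rfl⟩ := Ideal.Quotient.mk_surjective s
    refine ⟨IsLocalization.mk' L a (⟨s, fun h => hs (Ideal.mem_map_of_mem π h)⟩ :
      (m).primeCompl), ?_⟩
    rw [Localization.localRingHom_mk']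
  have hpp : (p.map π).IsPrime :=
    Ideal.map_isPrime_of_surjective Ideal.Quotient.mk_surjective (by rw [Ideal.mk_ker]; exact hp.1.2)
  have hpq : p.map π ≤ q := Ideal.map_mono hpm
  have hd : Disjoint (q.primeCompl : Set (S ⧸ J)) (p.map π) := by
    rw [Set.disjoint_left]; exact fun a ha hb => ha (hpq hb)
  have hmin : p.map π ∈ minimalPrimes (S ⧸ J) := by
    refine ⟨⟨hpp, bot_le⟩, fun r hr hle => ?_⟩
    haveI := hr.1
    have hge : p ≤ r.comap π := hp.2 ⟨inferInstance,
      fun a ha => by simp [Ideal.mem_comap, π, Ideal.Quotient.eq_zero_iff_mem.mpr ha]⟩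
      (fun a ha => (Ideal.mem_quotient_iff_mem hp.1.2).mp (hle ha))
    exact Ideal.map_le_iff_le_comap.mpr hge
  haveI : IsRegularLocalRing L := inferInstance
  haveI := DepthLib.isCohenMacaulayLocalRing_of_isRegularLocalRing (R := L)
  obtain ⟨hPp, hPc, hdim⟩ := dim_loc (A := Localization.AtPrime q) (L := Localization.AtPrime (m)) q.primeCompl φ hφ (p.map π) hmin hd
  haveI := hPp
  have hcm : (((p.map π).map (algebraMap (S ⧸ J) A)).comap φ).comap (algebraMap S L) = p := by
    ext a
    rw [Ideal.mem_comap, Ideal.mem_comap, Localization.localRingHom_to_map, ← Ideal.mem_comap, hPc]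
    exact Ideal.mem_quotient_iff_mem hp.1.2
  have e := IsLocalization.height_comap (m).primeCompl
    (((p.map π).map (algebraMap (S ⧸ J) A)).comap φ)
  rw [Ideal.under_def, hcm] at e
  rw [e]
  exact hdim

/-- Minimal primes of a homogeneous ideal with Cohen–Macaulay quotient have equal height. -/
theorem height_add_dim (J : Ideal S) (hJ : J.IsHomogeneous (GrSyz.stdGr K (Fin (n + 1))))
    [LocCoh.IsCohenMacaulayRing (S ⧸ J)] {p : Ideal S} (hp : p ∈ J.minimalPrimes)
    [((irr K n).map (Ideal.Quotient.mk J)).IsPrime] :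
    ringKrullDim (Localization.AtPrime (irr K n)) =
      ringKrullDim (Localization.AtPrime ((irr K n).map (Ideal.Quotient.mk J))) +
        (p.height : WithBot ℕ∞) :=
  dim_atPrime J hp (irr K n)
    (le_irr (isHomogeneous_of_mem_minimalPrimes hJ hp) hp.1.1.ne_top)

/-- A homogeneous ideal with Cohen–Macaulay quotient is unmixed. -/
theorem height_eq_of_mem_associatedPrimes (J : Ideal S)
    (hJ : J.IsHomogeneous (GrSyz.stdGr K (Fin (n + 1)))) [LocCoh.IsCohenMacaulayRing (S ⧸ J)]
    {p : Ideal S} (hp : p ∈ associatedPrimes S (S ⧸ J)) : p.height = J.height := by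
  have hp' := mem_minimalPrimes_of_mem_associatedPrimes J hp
  have hJne : J ≠ ⊤ := fun h => hp'.1.1.ne_top (top_le_iff.mp (h ▸ hp'.1.2))
  have hle : J ≤ irr K n := le_irr hJ hJne
  haveI : ((irr K n).map (Ideal.Quotient.mk J)).IsPrime :=
    Ideal.map_isPrime_of_surjective Ideal.Quotient.mk_surjective (by rwa [Ideal.mk_ker])
  refine le_antisymm ?_ (Ideal.height_mono hp'.1.2)
  rw [Ideal.height_eq_inf_minimalPrimes (I := J)]
  refine le_iInf₂ fun p' hp'' => ?_
  haveI := hp''.1.1
  haveI := hp'.1.1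
  have h1 := height_add_dim J hJ hp'
  have h2 := height_add_dim J hJ hp''
  haveI := isCM_localization J ((irr K n).map (Ideal.Quotient.mk J))
  obtain ⟨d, hd⟩ := exists_dim_eq (Localization.AtPrime ((irr K n).map (Ideal.Quotient.mk J)))
  rw [hd] at h1 h2
  have h3 := h1.symm.trans h2
  rw [show (d : WithBot ℕ∞) = ((d : ℕ∞) : WithBot ℕ∞) from rfl, ← WithBot.coe_add, ← WithBot.coe_add,
    WithBot.coe_inj] at h3
  exact le_of_eq ((ENat.add_left_injective_of_ne_top (ENat.natCast_ne_top d)) (by simpa [add_comm] using h3))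

end Groth.Agent.LiaisonH1

namespace Groth.Agent.LiaisonH1

open MvPolynomial IsLocalRing

variable {R : Type u} [CommRing R]

/-- Associated primes of a colon quotient are associated to the original quotient. -/
theorem associatedPrimes_colon_subset [IsNoetherianRing R] (𝔠 I : Ideal R) :
    associatedPrimes R (R ⧸ 𝔠.colon (I : Set R)) ⊆ associatedPrimes R (R ⧸ 𝔠) := by
  intro p hp
  obtain ⟨hprime, y, hy⟩ := isAssociatedPrime_iff.1 hp
  obtain ⟨x, rfl⟩ := Ideal.Quotient.mk_surjective y
  obtain ⟨G, hG⟩ := IsNoetherian.noetherian I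
  have hmem : ∀ (J : Ideal R) (a z : R),
      a ∈ (⊥ : Submodule R (R ⧸ J)).colon {Ideal.Quotient.mk J z} ↔ a * z ∈ J := fun J a z => by
    rw [Submodule.mem_colon_singleton, Submodule.mem_bot]
    exact Ideal.Quotient.eq_zero_iff_mem (a := a * z)
  have hp' : ∀ a, a ∈ p ↔ ∀ g ∈ G, a * (x * g) ∈ 𝔠 := fun a => by
    rw [hy, hmem, Submodule.mem_colon]
    refine ⟨fun h g hg => by rw [← mul_assoc]; exact h g (hG ▸ Ideal.subset_span hg), fun h i hi => ?_⟩
    rw [SetLike.mem_coe, ← hG] at hi
    induction hi using Submodule.span_induction with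
    | mem g hg => rw [smul_eq_mul, mul_assoc]; exact h g hg
    | zero => simp
    | add a b _ _ ha hb => rw [smul_add]; exact add_mem ha hb
    | smul c b _ hb => rw [smul_comm]; exact 𝔠.mul_mem_left c hb
  have heq : p = G.inf fun g => (⊥ : Submodule R (R ⧸ 𝔠)).colon {Ideal.Quotient.mk 𝔠 (x * g)} := by
    ext a
    simp only [hp', Submodule.mem_finsetInf, hmem]
  obtain ⟨g, hg, hle⟩ := (Ideal.IsPrime.inf_le' hprime).mp heq.ge
  refine isAssociatedPrime_iff.2 ⟨hprime, Ideal.Quotient.mk 𝔠 (x * g), le_antisymm ?_ hle⟩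
  intro a ha
  exact (hmem _ _ _).mpr ((hp' a).mp ha g hg)

theorem minimalPrimes_subset_associatedPrimes [IsNoetherianRing R] (I : Ideal R) :
    I.minimalPrimes ⊆ associatedPrimes R (R ⧸ I) := fun p hp => by
  refine Module.associatedPrimes.minimalPrimes_annihilator_subset_associatedPrimes R (R ⧸ I) ?_
  rwa [Ideal.annihilator_quotient]

/-- Double annihilators in a self-injective ring. -/
theorem mem_of_forall_mul_eq_zero {A : Type u} [CommRing A] (hA : Module.Injective A A)
    {J : Ideal A} (hJ : J.FG) {x : A}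
    (hx : ∀ a, (∀ j ∈ J, a * j = 0) → a * x = 0) : x ∈ J := by
  obtain ⟨r, g, rfl⟩ := Submodule.fg_iff_exists_fin_generating_family.mp hJ
  let θ : A →ₗ[A] (Fin r → A) := LinearMap.pi fun i => LinearMap.mulRight A (g i)
  have hker : LinearMap.ker θ ≤ LinearMap.ker (LinearMap.mulRight A x) := fun a ha => by
    refine hx a fun j hj => ?_
    induction hj using Submodule.span_induction with
    | mem j hj =>
      obtain ⟨i, rfl⟩ := hj
      exact congrFun (show θ a = 0 from ha) i
    | zero => simp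
    | add b c _ _ hb hc => rw [mul_add, hb, hc, add_zero]
    | smul c b _ hb => rw [smul_eq_mul, mul_left_comm, hb, mul_zero]
  obtain ⟨h, hh⟩ := hA.out ((LinearMap.ker θ).liftQ θ le_rfl)
    (LinearMap.ker_eq_bot.mp (Submodule.ker_liftQ_eq_bot _ _ _ le_rfl))
    ((LinearMap.ker θ).liftQ (LinearMap.mulRight A x) hker)
  have h1 := hh (Submodule.Quotient.mk 1)
  simp only [Submodule.liftQ_apply, LinearMap.mulRight_apply, one_mul] at h1
  rw [← h1, pi_eq_sum_univ (θ 1) , map_sum]
  refine sum_mem fun i _ => ?_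
  rw [map_smul]
  simp only [θ, LinearMap.pi_apply, LinearMap.mulRight_apply, one_mul, smul_eq_mul]
  exact Ideal.mul_mem_right _ _ (Ideal.subset_span ⟨i, rfl⟩)

/-- Double annihilators in a zero-dimensional Gorenstein local ring. -/
theorem mem_of_gorenstein_dim_zero {A : Type u} [CommRing A] [LocCoh.IsGorensteinLocalRing A]
    (hd : ringKrullDim A = 0) {J : Ideal A} {x : A}
    (hx : ∀ a, (∀ j ∈ J, a * j = 0) → a * x = 0) : x ∈ J := by
  haveI : LocCoh.IsCohenMacaulayLocalRing A := GorenLib.isCohenMacaulayLocalRing_of_gorenstein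
  refine mem_of_forall_mul_eq_zero ?_ (IsNoetherian.noetherian J) hx
  have h1 := LocCoh.IsCohenMacaulayLocalRing.supportDim_eq_depth (R := A)
  rw [Module.supportDim_self_eq_ringKrullDim, hd] at h1
  have h0 : LocCoh.depth A A = 0 := (WithBot.coe_injective h1).symm
  exact GorenLib.injective_of_depth_zero h0 0 (GorenLib.gorenstein_invariants 0 A h0).2

end Groth.Agent.LiaisonH1
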