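import Groth.Agent.Lib.LiaisonH1.Socle
import Groth.Agent.Lib.LiaisonH1.Unmixed
import Groth.Agent.Lib.Goren.GorenDual27
import Groth.Agent.Lib.Goren.GorenFinLen27
import Groth.Agent.Lib.Depth.SkOps
import Groth.Agent.Lib.Goren.SopHull27
import Groth.Agent.S0343

/-!
Linkage in a Gorenstein local ring.
-/

universe u

open IsLocalRing CategoryTheory Abelian Pointwise

namespace Groth.Agent.LiaisonH1

section Basic

variable {A : Type u} [CommRing A]

theorem isSMulRegular_of_prod {M N : Type u} [AddCommGroup M] [Module A M] [AddCommGroup N]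
    [Module A N] {x : A} (h : IsSMulRegular (M × N) x) : IsSMulRegular M x ∧ IsSMulRegular N x := by
  constructor
  · exact fun a b hab => congrArg Prod.fst (h (show x • (a, (0 : N)) = x • (b, (0 : N)) by
      rw [Prod.smul_mk, Prod.smul_mk]; exact Prod.ext hab rfl))
  · exact fun a b hab => congrArg Prod.snd (h (show x • ((0 : M), a) = x • ((0 : M), b) by
      rw [Prod.smul_mk, Prod.smul_mk]; exact Prod.ext rfl hab))

theorem mem_of_regular {K : Ideal A} {x a : A} (h : IsSMulRegular (A ⧸ K) x) (hxa : x * a ∈ K) :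
    a ∈ K := by
  refine Ideal.Quotient.eq_zero_iff_mem.1 (h.right_eq_zero_of_smul ?_)
  exact Ideal.Quotient.eq_zero_iff_mem.2 hxa

theorem mem_colon_iff {I : Ideal A} {a : A} :
    a ∈ (⊥ : Ideal A).colon (I : Set A) ↔ ∀ i ∈ I, a * i = 0 := by
  simp [Submodule.mem_annihilator]

theorem regular_quot_colon {I : Ideal A} {x : A} (hx : IsSMulRegular A x) :
    IsSMulRegular (A ⧸ (⊥ : Ideal A).colon (I : Set A)) x := by
  refine isSMulRegular_iff_right_eq_zero_of_smul.2 fun y hy => ?_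
  obtain ⟨y, rfl⟩ := Ideal.Quotient.mk_surjective y
  replace hy : x * y ∈ (⊥ : Ideal A).colon (I : Set A) := Ideal.Quotient.eq_zero_iff_mem.1 hy
  refine Ideal.Quotient.eq_zero_iff_mem.2 (mem_colon_iff.2 fun i hi => hx.right_eq_zero_of_smul ?_)
  rw [smul_eq_mul, ← mul_assoc]
  exact mem_colon_iff.1 hy i hi

variable [IsLocalRing A] [IsNoetherianRing A]

theorem exists_regular {M : Type u} [AddCommGroup M] [Module A M] [Module.Finite A M] {d : ℕ}
    (hA : ((d + 1 : ℕ) : ℕ∞) ≤ LocCoh.depth A A) (hM : 1 ≤ LocCoh.depth A M) :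
    ∃ x ∈ maximalIdeal A, IsSMulRegular A x ∧ IsSMulRegular M x := by
  have h1 : (1 : ℕ∞) ≤ LocCoh.idealDepth (maximalIdeal A) (A × M) := by
    refine le_trans (le_min ?_ hM) (DepthLib.min_idealDepth_le_prod _)
    exact le_trans (by exact_mod_cast Nat.le_add_left 1 d) hA
  obtain ⟨x, hx, hreg⟩ := DepthLib.exists_isSMulRegular_of_one_le_idealDepth
    (DepthLib.smul_top_ne_top (maximalIdeal.isMaximal A).ne_top) h1
  exact ⟨x, hx, isSMulRegular_of_prod hreg⟩

theorem depth_prod {M N : Type u} [AddCommGroup M] [Module A M] [Module.Finite A M] [AddCommGroup N]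
    [Module A N] [Module.Finite A N] {n : ℕ∞} (hM : n ≤ LocCoh.depth A M) (hN : n ≤ LocCoh.depth A N) :
    n ≤ LocCoh.depth A (M × N) :=
  (le_min hM hN).trans (DepthLib.min_idealDepth_le_prod _)

theorem depth_quot_step (K : Ideal A) {x : A} (hx : x ∈ maximalIdeal A)
    (hreg : IsSMulRegular (A ⧸ K) x) [IsLocalRing (A ⧸ Ideal.span {x})] (d : ℕ) :
    ((d + 1 : ℕ) : ℕ∞) ≤ LocCoh.depth A (A ⧸ K) ↔
      (d : ℕ∞) ≤ LocCoh.depth (A ⧸ Ideal.span {x})
        ((A ⧸ Ideal.span {x}) ⧸ K.map (Ideal.Quotient.mk (Ideal.span {x}))) := by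
  rw [LocCoh.depth, LocCoh.depth, RegLoc.maximalIdeal_quotient, ← Ideal.Quotient.algebraMap_eq,
    GorenLib.idealDepth_map_of_surjective (A := A) (B := A ⧸ Ideal.span {x}) Ideal.Quotient.mk_surjective,
    ← DepthLib.natCast_le_idealDepth_quotSMulTop_iff hx hreg]
  have hmap : (x • (⊤ : Submodule A (A ⧸ K))) = Submodule.map (Submodule.mkQ K) (Ideal.span {x}) := by
    ext y
    simp only [Submodule.mem_smul_pointwise_iff_exists, Submodule.mem_map, Ideal.mem_span_singleton']
    constructor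
    · rintro ⟨b, -, rfl⟩
      obtain ⟨b, rfl⟩ := Ideal.Quotient.mk_surjective b
      exact ⟨b * x, ⟨b, rfl⟩, by rw [mul_comm]; rfl⟩
    · rintro ⟨z, ⟨b, rfl⟩, rfl⟩
      exact ⟨Ideal.Quotient.mk K b, trivial, by rw [mul_comm]; rfl⟩
  let e : QuotSMulTop x (A ⧸ K) ≃ₗ[A]
      ((A ⧸ Ideal.span {x}) ⧸ K.map (Ideal.Quotient.mk (Ideal.span {x}))) :=
    ((Submodule.quotEquivOfEq _ _ hmap).trans
      ((Submodule.quotientQuotientEquivQuotientSup K (Ideal.span {x})).trans
        (Submodule.quotEquivOfEq _ _ (sup_comm _ _)))).trans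
      (DoubleQuot.quotQuotEquivQuotSupₐ A (Ideal.span {x}) K).toLinearEquiv.symm
  rw [DepthLib.idealDepth_congr e]
  rfl

end Basic

variable {A : Type u} [CommRing A] [LocCoh.IsGorensteinLocalRing A]

theorem quotient_step {d : ℕ} (hd : ringKrullDim A = ((d + 1 : ℕ) : WithBot ℕ∞)) {x : A}
    (hx : x ∈ maximalIdeal A) (hreg : IsSMulRegular A x) :
    LocCoh.IsGorensteinLocalRing (A ⧸ Ideal.span {x}) ∧
      ringKrullDim (A ⧸ Ideal.span {x}) = (d : WithBot ℕ∞) := by
  refine ⟨(Groth.Agent.S0343.result A x hx hreg).1 inferInstance, ?_⟩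
  have h := GorenLib.ringKrullDim_quotient_add_one hx hreg
  rw [hd] at h
  refine le_antisymm (DepthLib.withBot_add_coe_cancel 1 ?_) (DepthLib.withBot_add_coe_cancel 1 ?_) <;>
    push_cast at h ⊢
  · exact h.le
  · exact h.ge

theorem exists_mul_of_depth {d : ℕ} (hd : ringKrullDim A = ((d + 1 : ℕ) : WithBot ℕ∞)) (I : Ideal A)
    (hI : ((d + 1 : ℕ) : ℕ∞) ≤ LocCoh.depth A (A ⧸ I)) (φ : I →ₗ[A] A) :
    ∃ z : A, ∀ i : I, φ i = (i : A) * z := by
  have h1 : Subsingleton (Ext (ModuleCat.of A (A ⧸ I)) (ModuleCat.of A A) 1) :=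
    (GorenLib.subsingleton_ext_iff_H hd (A ⧸ I) 1).2 fun i hi =>
      (GorenLib.natCast_le_depth_iff_H (A ⧸ I) (d + 1)).1 hI i (by omega)
  have hS := DepthLib.shortExact_of_linearMap (Submodule.injective_subtype I)
    (Submodule.mkQ_surjective I) (LinearMap.exact_subtype_mkQ I)
  obtain ⟨b, hb⟩ := Ext.contravariant_sequence_exact₁ hS (ModuleCat.of A A)
    (Ext.mk₀ (ModuleCat.ofHom φ)) (n₁ := 1) rfl (h1.elim _ _)
  obtain ⟨b, rfl⟩ := (Ext.homEquiv₀.symm.surjective b)
  rw [Ext.homEquiv₀_symm_apply, Ext.mk₀_comp_mk₀] at hb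
  have hb' := Ext.homEquiv₀.symm.injective hb
  refine ⟨b.hom 1, fun i => ?_⟩
  have h2 : b.hom (i : A) = φ i := congr($(hb').hom i)
  rw [← h2, ← smul_eq_mul, ← map_smul, smul_eq_mul, mul_one]

theorem colon_map {d : ℕ} (hd : ringKrullDim A = ((d + 1 : ℕ) : WithBot ℕ∞)) (I : Ideal A)
    (hI : ((d + 1 : ℕ) : ℕ∞) ≤ LocCoh.depth A (A ⧸ I)) {x : A} (hreg : IsSMulRegular A x) :
    (⊥ : Ideal (A ⧸ Ideal.span {x})).colon
        (I.map (Ideal.Quotient.mk (Ideal.span {x})) : Set (A ⧸ Ideal.span {x})) =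
      ((⊥ : Ideal A).colon (I : Set A)).map (Ideal.Quotient.mk (Ideal.span {x})) := by
  refine le_antisymm ?_ ?_
  · intro y hy
    obtain ⟨y, rfl⟩ := Ideal.Quotient.mk_surjective y
    have h1 : ∀ i : I, ∃ w, w * x = y * i := fun i => Ideal.mem_span_singleton'.1
      (Ideal.Quotient.eq_zero_iff_mem.1 (by
        rw [map_mul]; exact mem_colon_iff.1 hy _ (Ideal.mem_map_of_mem _ i.2)))
    choose w hw using h1
    have hinj : ∀ a b : A, a * x = b * x → a = b := fun a b h => hreg (by simpa [mul_comm] using h)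
    let φ : I →ₗ[A] A :=
      { toFun := w
        map_add' := fun a b => hinj _ _ (by rw [add_mul, hw, hw, hw, Submodule.coe_add, mul_add])
        map_smul' := fun c a => hinj _ _ (by
          simp only [RingHom.id_apply, smul_eq_mul, mul_assoc, hw, SetLike.val_smul]
          ring) }
    obtain ⟨z, hz⟩ := exists_mul_of_depth hd I hI φ
    have h2 : y - x * z ∈ (⊥ : Ideal A).colon (I : Set A) := mem_colon_iff.2 fun i hi => by
      have h3 : w ⟨i, hi⟩ = i * z := hz ⟨i, hi⟩
      have h4 := hw ⟨i, hi⟩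
      rw [h3] at h4
      linear_combination -h4
    have h5 := Ideal.mem_map_of_mem (Ideal.Quotient.mk (Ideal.span {x})) h2
    have h6 : Ideal.Quotient.mk (Ideal.span {x}) (x * z) = 0 :=
      Ideal.Quotient.eq_zero_iff_mem.2 (Ideal.mul_mem_right _ _ (Ideal.mem_span_singleton_self x))
    rwa [map_sub, h6, sub_zero] at h5
  · rw [Ideal.map_le_iff_le_comap]
    intro y hy
    rw [Ideal.mem_comap, mem_colon_iff]
    intro i hi
    obtain ⟨i, hi', rfl⟩ := (Ideal.mem_map_iff_of_surjective _ Ideal.Quotient.mk_surjective).1 hi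
    rw [← map_mul, mem_colon_iff.1 hy i hi', map_zero]

theorem gorenstein_of_quotient {K : Ideal A} {x : A} (hx : x ∈ maximalIdeal A)
    (hreg : IsSMulRegular (A ⧸ K) x) (hK : K ≠ ⊤)
    (h : LocCoh.IsGorensteinLocalRing
      ((A ⧸ Ideal.span {x}) ⧸ K.map (Ideal.Quotient.mk (Ideal.span {x})))) :
    LocCoh.IsGorensteinLocalRing (A ⧸ K) := by
  haveI : Nontrivial (A ⧸ K) := Ideal.Quotient.nontrivial_iff.2 hK
  haveI : IsLocalRing (A ⧸ K) := IsLocalRing.of_surjective' _ Ideal.Quotient.mk_surjective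
  haveI : IsLocalHom (Ideal.Quotient.mk K) := IsLocalHom.of_surjective _ Ideal.Quotient.mk_surjective
  refine (Groth.Agent.S0343.result (A ⧸ K) (Ideal.Quotient.mk K x)
    ((map_mem_nonunits_iff (Ideal.Quotient.mk K) x).2 hx) ?_).2
    ((Goren15.isGorensteinLocalRing_iff_of_ringEquiv
      ((DoubleQuot.quotQuotEquivQuotSup (Ideal.span {x}) K).trans
        ((Ideal.quotEquivOfEq (sup_comm _ _)).trans
          ((DoubleQuot.quotQuotEquivQuotSup K (Ideal.span {x})).symm.trans
            (Ideal.quotEquivOfEq (by rw [Ideal.map_span, Set.image_singleton])))))).1 h)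
  intro a b hab
  exact hreg (by simpa [Algebra.smul_def] using hab)

/-- The linked ideal of a maximal Cohen–Macaulay quotient has maximal depth. -/
theorem depth_colon : ∀ (d : ℕ) (A : Type u) [CommRing A] [LocCoh.IsGorensteinLocalRing A]
    (I : Ideal A), ringKrullDim A = (d : WithBot ℕ∞) → (d : ℕ∞) ≤ LocCoh.depth A (A ⧸ I) →
    (d : ℕ∞) ≤ LocCoh.depth A (A ⧸ (⊥ : Ideal A).colon (I : Set A)) := by
  intro d
  induction d with
  | zero => intro A _ _ I _ _; simp
  | succ d ih =>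
    intro A _ _ I hd hI
    obtain ⟨x, hx, hxA, hxI⟩ := exists_regular (GorenLib.gorenstein_of_dim hd).1.ge
      (le_trans (by exact_mod_cast Nat.le_add_left 1 d) hI)
    obtain ⟨hG, hd'⟩ := quotient_step hd hx hxA
    have h := ih (A ⧸ Ideal.span {x}) (I.map (Ideal.Quotient.mk _)) hd'
      ((depth_quot_step I hx hxI d).1 hI)
    rw [colon_map hd I hI hxA] at h
    exact (depth_quot_step _ hx (regular_quot_colon hxA) d).2 h

/-- The linked ideal of a principal ideal gives a Gorenstein quotient. -/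
theorem gorenstein_colon : ∀ (d : ℕ) (A : Type u) [CommRing A] [LocCoh.IsGorensteinLocalRing A]
    (f : A), ringKrullDim A = (d : WithBot ℕ∞) → (d : ℕ∞) ≤ LocCoh.depth A (A ⧸ Ideal.span {f}) →
    (⊥ : Ideal A).colon (Ideal.span {f} : Set A) ≠ ⊤ →
    LocCoh.IsGorensteinLocalRing (A ⧸ (⊥ : Ideal A).colon (Ideal.span {f} : Set A)) := by
  intro d
  induction d with
  | zero =>
    intro A _ _ f hd _ hne
    set J := (⊥ : Ideal A).colon (Ideal.span {f} : Set A)
    have hJ : ∀ y, Ideal.Quotient.mk J y = 0 ↔ y * f = 0 := fun y => by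
      rw [Ideal.Quotient.eq_zero_iff_mem, mem_colon_iff]
      refine ⟨fun h => h f (Ideal.mem_span_singleton_self f), fun h i hi => ?_⟩
      obtain ⟨c, rfl⟩ := Ideal.mem_span_singleton'.1 hi
      rw [mul_left_comm, h, mul_zero]
    haveI : Ring.KrullDimLE 0 A := ringKrullDimZero_iff_ringKrullDim_eq_zero.2 hd
    haveI : IsArtinianRing A := IsNoetherianRing.isArtinianRing_of_krullDimLE_zero
    haveI : Nontrivial (A ⧸ J) := Ideal.Quotient.nontrivial_iff.2 hne
    haveI : IsLocalRing (A ⧸ J) := IsLocalRing.of_surjective' _ Ideal.Quotient.mk_surjective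
    haveI : IsArtinianRing (A ⧸ J) := Ideal.Quotient.mk_surjective.isArtinianRing
    haveI : IsLocalHom (Ideal.Quotient.mk J) := IsLocalHom.of_surjective _ Ideal.Quotient.mk_surjective
    obtain ⟨e, -, he, hgen⟩ := GorenLib.exists_socle_artinian A (by simpa using hd)
    refine gorenstein_of_socle _ fun y y' hy0 hy hy' => ?_
    obtain ⟨y, rfl⟩ := Ideal.Quotient.mk_surjective y
    obtain ⟨y', rfl⟩ := Ideal.Quotient.mk_surjective y'
    have key : ∀ z : A, (∀ a ∈ maximalIdeal (A ⧸ J), a * Ideal.Quotient.mk J z = 0) →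
        ∀ a ∈ maximalIdeal A, a * (z * f) = 0 := fun z hz a ha => by
      have := hz (Ideal.Quotient.mk J a) ((map_mem_nonunits_iff (Ideal.Quotient.mk J) a).2 ha)
      rw [← map_mul, hJ] at this
      rw [← mul_assoc]; exact this
    obtain ⟨c, hc⟩ := hgen _ (key y hy)
    obtain ⟨c', hc'⟩ := hgen _ (key y' hy')
    have hcu : IsUnit c := by
      by_contra hcn
      exact hy0 ((hJ y).2 (by rw [hc]; exact he c hcn))
    obtain ⟨u, rfl⟩ := hcu
    refine ⟨Ideal.Quotient.mk J (c' * ↑u⁻¹), ?_⟩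
    rw [← map_mul, ← sub_eq_zero, ← map_sub, hJ]
    have hu : (↑u⁻¹ : A) * ↑u = 1 := u.inv_mul
    linear_combination hc' - c' * ↑u⁻¹ * hc - c' * e * hu
  | succ d ih =>
    intro A _ _ f hd hI hne
    obtain ⟨x, hx, hxA, hxI⟩ := exists_regular (GorenLib.gorenstein_of_dim hd).1.ge
      (le_trans (by exact_mod_cast Nat.le_add_left 1 d) hI)
    obtain ⟨hG, hd'⟩ := quotient_step hd hx hxA
    set q := Ideal.Quotient.mk (Ideal.span {x})
    have hspan : (Ideal.span {f}).map q = Ideal.span {q f} := by rw [Ideal.map_span, Set.image_singleton]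
    set J := (⊥ : Ideal A).colon (Ideal.span {f} : Set A) with hJdef
    have hcol : (⊥ : Ideal (A ⧸ Ideal.span {x})).colon (Ideal.span {q f} : Set (A ⧸ Ideal.span {x})) =
        J.map q := by rw [← hspan]; exact colon_map hd _ hI hxA
    have hle : J ⊔ Ideal.span {x} ≤ maximalIdeal A :=
      sup_le (le_maximalIdeal hne) ((Ideal.span_singleton_le_iff_mem _).2 hx)
    have hne' : J.map q ≠ ⊤ := fun h => by
      have := congrArg (Ideal.comap q) h
      rw [Ideal.comap_map_of_surjective q Ideal.Quotient.mk_surjective, ← RingHom.ker_eq_comap_bot,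
        Ideal.mk_ker, Ideal.comap_top] at this
      exact (maximalIdeal.isMaximal A).ne_top (top_le_iff.1 (this ▸ hle))
    have h := ih (A ⧸ Ideal.span {x}) (q f) hd' (hspan ▸ (depth_quot_step _ hx hxI d).1 hI)
      (hcol.symm ▸ hne')
    rw [hcol] at h
    exact gorenstein_of_quotient hx (regular_quot_colon hxA) hne h

end Groth.Agent.LiaisonH1
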