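import Groth.Agent.Lib.InjHull.Matlis
import Groth.Agent.Lib.InjHull.Socle
import Groth.Agent.Lib.Goren15.DepthZero
import Mathlib.RingTheory.HopkinsLevitzki
import Mathlib.RingTheory.Length

/-!
Artinian local rings with simple socle are Gorenstein.
-/

universe u

open IsLocalRing InjHull

namespace Groth.Agent.LiaisonH1

theorem gorenstein_of_socle (B : Type u) [CommRing B] [IsLocalRing B] [IsArtinianRing B]
    (h : ∀ y y' : B, y ≠ 0 → (∀ a ∈ maximalIdeal B, a * y = 0) →
      (∀ a ∈ maximalIdeal B, a * y' = 0) → ∃ c, y' = c * y) :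
    LocCoh.IsGorensteinLocalRing B := by
  obtain ⟨N, hN⟩ := (isArtinianRing_iff_isNilpotent_maximalIdeal B).1 inferInstance
  have hpt : LocCoh.IsPowerTorsion (maximalIdeal B) B := fun y => ⟨N, fun a ha => by
    rw [hN] at ha; rw [show a = 0 from ha, zero_smul]⟩
  obtain ⟨r, hr, hr0⟩ := InjHullLib.exists_smul_mem_torsion hpt (one_ne_zero (α := B))
  set e := r • (1 : B)
  have he : ∀ a ∈ maximalIdeal B, a * e = 0 := fun a ha => InjHullLib.mem_torsion_iff.1 hr a ha
  let g : ResidueField B →ₗ[B] B := (maximalIdeal B).liftQ (LinearMap.toSpanSingleton B B e)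
    fun a ha => by simpa using he a ha
  have hg : Function.Injective g := by
    refine LinearMap.ker_eq_bot.1 (Submodule.ker_liftQ_eq_bot _ _ _ fun a ha => ?_)
    rw [LinearMap.mem_ker, LinearMap.toSpanSingleton_apply] at ha
    exact (IsLocalRing.mem_maximalIdeal a).2 fun hu => hr0 (hu.smul_eq_zero.1 ha)
  have hess : IsEssentialInj g := by
    refine (InjHullLib.isEssentialInj_iff g).2 ⟨hg, fun x hx => ?_⟩
    obtain ⟨s, hs, hs0⟩ := InjHullLib.exists_smul_mem_torsion hpt hx
    obtain ⟨c, hc⟩ := h e (s • x) hr0 he fun a ha => InjHullLib.mem_torsion_iff.1 hs a ha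
    refine ⟨s, ⟨Submodule.Quotient.mk c, ?_⟩, hs0⟩
    rw [hc]
    rfl
  obtain ⟨E, _, _, f, hf⟩ := InjHullLib.exists_injective_hull B (ResidueField B)
  obtain ⟨α, hα, -⟩ := InjHullLib.exists_extension_injective hess f hf.injective hf.isInjective
  have hfl : IsFiniteLength B B := InjHullLib.isFiniteLength_of_finite_of_isArtinianRing B
  have hlen : Module.length B E = Module.length B B := by
    rw [← InjHullLib.length_dual hf hfl]
    exact (LinearMap.ringLmapEquivSelf B B E).length_eq.symm
  have hsurj : Function.Surjective α := by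
    have h2 := Module.length_eq_add_of_exact α (LinearMap.range α).mkQ hα (Submodule.mkQ_surjective _)
      (LinearMap.exact_map_mkQ_range α)
    rw [hlen] at h2
    have h3 : Module.length B (E ⧸ LinearMap.range α) = 0 :=
      ENat.add_left_injective_of_ne_top (Module.length_ne_top_iff.2 hfl) (by
        simpa [add_comm] using h2.symm)
    rw [Module.length_eq_zero_iff, Submodule.Quotient.subsingleton_iff] at h3
    exact LinearMap.range_eq_top.1 h3
  exact Goren15.gorenstein_of_injective B
    (InjHullLib.injective_of_linearEquiv (LinearEquiv.ofBijective α ⟨hα, hsurj⟩).symm hf.isInjective)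

end Groth.Agent.LiaisonH1
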